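import Cfsg.Agent.Helper17.FiQ4TC.Lemmas

set_option autoImplicit false
set_option linter.all false

noncomputable section

namespace Cfsg.Agent.Helper17.FiQ4TC

theorem F1 : act 0 n0 = n0 := d6_0 B0 
def n1 : Q := act 1 n0
theorem D1 : act 1 n0 = n1 := rfl
def n2 : Q := act 2 n0
theorem D2 : act 2 n0 = n2 := rfl
theorem F2 : act 0 n2 = n2 := d1_1 D2 (iv D2) F1
def n3 : Q := act 3 n0
theorem D3 : act 3 n0 = n3 := rfl
theorem F3 : act 0 n3 = n3 := d2_1 D3 (iv D3) F1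
def n4 : Q := act 0 n1
theorem D4 : act 0 n1 = n4 := rfl
theorem F4 : act 1 n4 = n4 := d0_2 D1 D4 (iv D4) (iv D1) F1
def n5 : Q := act 2 n1
theorem D5 : act 2 n1 = n5 := rfl
def n6 : Q := act 3 n1
theorem D6 : act 3 n1 = n6 := rfl
theorem F5 : act 1 n6 = n3 := d4_1 D6 (iv D3) D1
def n7 : Q := act 1 n2
theorem D7 : act 1 n2 = n7 := rfl
def n8 : Q := act 3 n2
theorem D8 : act 3 n2 = n8 := rfl
theorem F6 : act 0 n8 = n8 := d2_1 D8 (iv D8) F2
def n9 : Q := act 2 n3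
theorem D9 : act 2 n3 = n9 := rfl
theorem F7 : act 0 n9 = n9 := d1_1 D9 (iv D9) F3
def n10 : Q := act 2 n4
theorem D10 : act 2 n4 = n10 := rfl
theorem F8 : act 0 n10 = n5 := d1_1 D10 (iv D5) D4
def n11 : Q := act 3 n4
theorem D11 : act 3 n4 = n11 := rfl
theorem F9 : act 0 n11 = n6 := d2_1 D11 (iv D6) D4
theorem F10 : act 1 n11 = n11 := d4_1 D11 (iv D11) F4
def n12 : Q := act 1 n5
theorem D12 : act 1 n5 = n12 := rfl
theorem F11 : act 2 n12 = n7 := d3_2 D5 D12 (iv D7) (iv D2) D1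
def n13 : Q := act 3 n5
theorem D13 : act 3 n5 = n13 := rfl
def n14 : Q := act 2 n6
theorem D14 : act 2 n6 = n14 := rfl
def n15 : Q := act 0 n7
theorem D15 : act 0 n7 = n15 := rfl
theorem F12 : act 1 n15 = n15 := d0_2 D7 D15 (iv D15) (iv D7) F2
def n16 : Q := act 3 n7
theorem D16 : act 3 n7 = n16 := rfl
theorem F13 : act 1 n16 = n8 := d4_1 D16 (iv D8) D7
def n17 : Q := act 2 n8
theorem D17 : act 2 n8 = n17 := rfl
theorem F14 : act 0 n17 = n17 := d1_1 D17 (iv D17) F6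
theorem F15 : act 3 n17 = n9 := d5_2 D8 D17 (iv D9) (iv D3) D2
def n18 : Q := act 1 n9
theorem D18 : act 1 n9 = n18 := rfl
def n19 : Q := act 1 n10
theorem D19 : act 1 n10 = n19 := rfl
theorem F16 : act 2 n19 = n19 := d3_2 D10 D19 (iv D19) (iv D10) F4
def n20 : Q := act 3 n10
theorem D20 : act 3 n10 = n20 := rfl
theorem F17 : act 0 n20 = n13 := d2_1 D20 (iv D13) (iv F8)
def n21 : Q := act 2 n11
theorem D21 : act 2 n11 = n21 := rfl
theorem F18 : act 0 n21 = n14 := d1_1 D21 (iv D14) (iv F9)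
def n22 : Q := act 0 n12
theorem D22 : act 0 n12 = n22 := rfl
theorem F19 : act 2 n22 = n15 := d1_2 (iv F11) D22 (iv D15)
def n23 : Q := act 3 n12
theorem D23 : act 3 n12 = n23 := rfl
theorem F20 : act 1 n23 = n13 := d4_1 D23 (iv D13) D12
def n24 : Q := act 2 n13
theorem D24 : act 2 n13 = n24 := rfl
theorem F21 : act 3 n24 = n14 := d5_2 D13 D24 (iv D14) (iv D6) D5
def n25 : Q := act 1 n14
theorem D25 : act 1 n14 = n25 := rfl
theorem F22 : act 2 n25 = n18 := d3_2 D14 D25 (iv D18) (iv D9) (iv F5)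
def n26 : Q := act 3 n15
theorem D26 : act 3 n15 = n26 := rfl
theorem F23 : act 0 n26 = n16 := d2_1 D26 (iv D16) D15
theorem F24 : act 1 n26 = n26 := d4_1 D26 (iv D26) F12
def n27 : Q := act 2 n16
theorem D27 : act 2 n16 = n27 := rfl
def n28 : Q := act 1 n17
theorem D28 : act 1 n17 = n28 := rfl
theorem F25 : act 3 n28 = n18 := d4_2 (iv F15) D28 (iv D18)
def n29 : Q := act 0 n18
theorem D29 : act 0 n18 = n29 := rfl
theorem F26 : act 1 n29 = n29 := d0_2 D18 D29 (iv D29) (iv D18) F7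
def n30 : Q := act 0 n19
theorem D30 : act 0 n19 = n30 := rfl
theorem F27 : act 1 n30 = n22 := d0_2 D19 D30 (iv D22) (iv D12) (iv F8)
theorem F28 : act 2 n30 = n30 := d1_2 F16 D30 (iv D30)
def n31 : Q := act 3 n19
theorem D31 : act 3 n19 = n31 := rfl
theorem F29 : act 1 n31 = n20 := d4_1 D31 (iv D20) D19
def n32 : Q := act 2 n20
theorem D32 : act 2 n20 = n32 := rfl
theorem F30 : act 0 n32 = n24 := d1_1 D32 (iv D24) (iv F17)
theorem F31 : act 3 n32 = n21 := d5_2 D20 D32 (iv D21) (iv D11) D10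
def n33 : Q := act 1 n21
theorem D33 : act 1 n21 = n33 := rfl
theorem F32 : act 2 n33 = n33 := d3_2 D21 D33 (iv D33) (iv D21) F10
def n34 : Q := act 3 n22
theorem D34 : act 3 n22 = n34 := rfl
theorem F33 : act 0 n34 = n23 := d2_1 D34 (iv D23) D22
def n35 : Q := act 2 n23
theorem D35 : act 2 n23 = n35 := rfl
theorem F34 : act 3 n35 = n27 := d5_2 D23 D35 (iv D27) (iv D16) (iv F11)
def n36 : Q := act 1 n24
theorem D36 : act 1 n24 = n36 := rfl
theorem F35 : act 3 n36 = n25 := d4_2 (iv F21) D36 (iv D25)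
def n37 : Q := act 0 n25
theorem D37 : act 0 n25 = n37 := rfl
theorem F36 : act 2 n37 = n29 := d1_2 (iv F22) D37 (iv D29)
def n38 : Q := act 2 n26
theorem D38 : act 2 n26 = n38 := rfl
theorem F37 : act 0 n38 = n27 := d1_1 D38 (iv D27) (iv F23)
def n39 : Q := act 1 n27
theorem D39 : act 1 n27 = n39 := rfl
theorem F38 : act 2 n39 = n28 := d3_2 D27 D39 (iv D28) (iv D17) (iv F13)
def n40 : Q := act 0 n28
theorem D40 : act 0 n28 = n40 := rfl
theorem F39 : act 1 n40 = n40 := d0_2 D28 D40 (iv D40) (iv D28) F14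
theorem F40 : act 3 n40 = n29 := d2_2 (iv F25) D40 (iv D29)
def n41 : Q := act 3 n30
theorem D41 : act 3 n30 = n41 := rfl
theorem F41 : act 0 n41 = n31 := d2_1 D41 (iv D31) D30
theorem F42 : act 1 n41 = n34 := d4_1 D41 (iv D34) (iv F27)
def n42 : Q := act 2 n31
theorem D42 : act 2 n31 = n42 := rfl
theorem F43 : act 3 n42 = n42 := d5_2 D31 D42 (iv D42) (iv D31) F16
def n43 : Q := act 1 n32
theorem D43 : act 1 n32 = n43 := rfl
theorem F44 : act 3 n43 = n33 := d4_2 (iv F31) D43 (iv D33)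
def n44 : Q := act 0 n33
theorem D44 : act 0 n33 = n44 := rfl
theorem F45 : act 1 n44 = n37 := d0_2 D33 D44 (iv D37) (iv D25) (iv F18)
theorem F46 : act 2 n44 = n44 := d1_2 F32 D44 (iv D44)
def n45 : Q := act 2 n34
theorem D45 : act 2 n34 = n45 := rfl
theorem F47 : act 0 n45 = n35 := d1_1 D45 (iv D35) (iv F33)
theorem F48 : act 3 n45 = n38 := d5_2 D34 D45 (iv D38) (iv D26) (iv F19)
def n46 : Q := act 1 n35
theorem D46 : act 1 n35 = n46 := rfl
theorem F49 : act 2 n46 = n36 := d3_2 D35 D46 (iv D36) (iv D24) (iv F20)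
theorem F50 : act 3 n46 = n39 := d4_2 (iv F34) D46 (iv D39)
def n47 : Q := act 0 n36
theorem D47 : act 0 n36 = n47 := rfl
theorem F51 : act 3 n47 = n37 := d2_2 (iv F35) D47 (iv D37)
def n48 : Q := act 1 n38
theorem D48 : act 1 n38 = n48 := rfl
theorem F52 : act 2 n48 = n48 := d3_2 D38 D48 (iv D48) (iv D38) F24
def n49 : Q := act 0 n39
theorem D49 : act 0 n39 = n49 := rfl
theorem F53 : act 2 n49 = n40 := d1_2 (iv F38) D49 (iv D40)
def n50 : Q := act 2 n41
theorem D50 : act 2 n41 = n50 := rfl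
theorem F54 : act 0 n50 = n42 := d1_1 D50 (iv D42) (iv F41)
theorem F55 : act 3 n50 = n50 := d5_2 D41 D50 (iv D50) (iv D41) F28
def n51 : Q := act 1 n42
theorem D51 : act 1 n42 = n51 := rfl
theorem F56 : act 2 n51 = n43 := d3_2 D42 D51 (iv D43) (iv D32) (iv F29)
theorem F57 : act 3 n51 = n51 := d4_2 F43 D51 (iv D51)
def n52 : Q := act 0 n43
theorem D52 : act 0 n43 = n52 := rfl
theorem F58 : act 1 n52 = n47 := d0_2 D43 D52 (iv D47) (iv D36) (iv F30)
theorem F59 : act 3 n52 = n44 := d2_2 (iv F44) D52 (iv D44)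
def n53 : Q := act 1 n45
theorem D53 : act 1 n45 = n53 := rfl
theorem F60 : act 3 n53 = n48 := d4_2 (iv F48) D53 (iv D48)
def n54 : Q := act 0 n46
theorem D54 : act 0 n46 = n54 := rfl
theorem F61 : act 2 n54 = n47 := d1_2 (iv F49) D54 (iv D47)
theorem F62 : act 3 n54 = n49 := d2_2 (iv F50) D54 (iv D49)
def n55 : Q := act 0 n48
theorem D55 : act 0 n48 = n55 := rfl
theorem F63 : act 1 n55 = n49 := d0_2 D48 D55 (iv D49) (iv D39) (iv F37)
theorem F64 : act 2 n55 = n55 := d1_2 F52 D55 (iv D55)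
def n56 : Q := act 1 n50
theorem D56 : act 1 n50 = n56 := rfl
theorem F65 : act 2 n56 = n53 := d3_2 D50 D56 (iv D53) (iv D45) (iv F42)
theorem F66 : act 3 n56 = n56 := d4_2 F55 D56 (iv D56)
def n57 : Q := act 0 n51
theorem D57 : act 0 n51 = n57 := rfl
theorem F67 : act 2 n57 = n52 := d1_2 (iv F56) D57 (iv D52)
theorem F68 : act 3 n57 = n57 := d2_2 F57 D57 (iv D57)
def n58 : Q := act 0 n53
theorem D58 : act 0 n53 = n58 := rfl
theorem F69 : act 1 n58 = n54 := d0_2 D53 D58 (iv D54) (iv D46) (iv F47)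
theorem F70 : act 3 n58 = n55 := d2_2 (iv F60) D58 (iv D55)
def n59 : Q := act 0 n56
theorem D59 : act 0 n56 = n59 := rfl
theorem F71 : act 1 n59 = n57 := d0_2 D56 D59 (iv D57) (iv D51) (iv F54)
theorem F72 : act 2 n59 = n58 := d1_2 (iv F65) D59 (iv D58)
theorem F73 : act 3 n59 = n59 := d2_2 F66 D59 (iv D59)

end Cfsg.Agent.Helper17.FiQ4TC
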