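import Cfsg.Agent.Helper17.FiQ4TC.Final

set_option autoImplicit false
set_option linter.all false
set_option maxRecDepth 100000

noncomputable section

namespace Cfsg.Agent.Helper17.FiQ4TC

theorem N1 : nd 1 = n1 := ndS (p := 0) (l := 1) rfl N0 D1
theorem N2 : nd 2 = n2 := ndS (p := 0) (l := 2) rfl N0 D2
theorem N3 : nd 3 = n3 := ndS (p := 0) (l := 3) rfl N0 D3
theorem N4 : nd 4 = n4 := ndS (p := 1) (l := 0) rfl N1 D4
theorem N5 : nd 5 = n5 := ndS (p := 1) (l := 2) rfl N1 D5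
theorem N6 : nd 6 = n6 := ndS (p := 1) (l := 3) rfl N1 D6
theorem N7 : nd 7 = n7 := ndS (p := 2) (l := 1) rfl N2 D7
theorem N8 : nd 8 = n8 := ndS (p := 2) (l := 3) rfl N2 D8
theorem N9 : nd 9 = n9 := ndS (p := 3) (l := 2) rfl N3 D9
theorem N10 : nd 10 = n10 := ndS (p := 4) (l := 2) rfl N4 D10
theorem N11 : nd 11 = n11 := ndS (p := 4) (l := 3) rfl N4 D11
theorem N12 : nd 12 = n12 := ndS (p := 5) (l := 1) rfl N5 D12
theorem N13 : nd 13 = n13 := ndS (p := 5) (l := 3) rfl N5 D13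
theorem N14 : nd 14 = n14 := ndS (p := 6) (l := 2) rfl N6 D14
theorem N15 : nd 15 = n15 := ndS (p := 7) (l := 0) rfl N7 D15
theorem N16 : nd 16 = n16 := ndS (p := 7) (l := 3) rfl N7 D16
theorem N17 : nd 17 = n17 := ndS (p := 8) (l := 2) rfl N8 D17
theorem N18 : nd 18 = n18 := ndS (p := 9) (l := 1) rfl N9 D18
theorem N19 : nd 19 = n19 := ndS (p := 10) (l := 1) rfl N10 D19
theorem N20 : nd 20 = n20 := ndS (p := 10) (l := 3) rfl N10 D20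
theorem N21 : nd 21 = n21 := ndS (p := 11) (l := 2) rfl N11 D21
theorem N22 : nd 22 = n22 := ndS (p := 12) (l := 0) rfl N12 D22
theorem N23 : nd 23 = n23 := ndS (p := 12) (l := 3) rfl N12 D23
theorem N24 : nd 24 = n24 := ndS (p := 13) (l := 2) rfl N13 D24
theorem N25 : nd 25 = n25 := ndS (p := 14) (l := 1) rfl N14 D25
theorem N26 : nd 26 = n26 := ndS (p := 15) (l := 3) rfl N15 D26
theorem N27 : nd 27 = n27 := ndS (p := 16) (l := 2) rfl N16 D27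
theorem N28 : nd 28 = n28 := ndS (p := 17) (l := 1) rfl N17 D28
theorem N29 : nd 29 = n29 := ndS (p := 18) (l := 0) rfl N18 D29
theorem N30 : nd 30 = n30 := ndS (p := 19) (l := 0) rfl N19 D30
theorem N31 : nd 31 = n31 := ndS (p := 19) (l := 3) rfl N19 D31
theorem N32 : nd 32 = n32 := ndS (p := 20) (l := 2) rfl N20 D32
theorem N33 : nd 33 = n33 := ndS (p := 21) (l := 1) rfl N21 D33
theorem N34 : nd 34 = n34 := ndS (p := 22) (l := 3) rfl N22 D34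
theorem N35 : nd 35 = n35 := ndS (p := 23) (l := 2) rfl N23 D35
theorem N36 : nd 36 = n36 := ndS (p := 24) (l := 1) rfl N24 D36
theorem N37 : nd 37 = n37 := ndS (p := 25) (l := 0) rfl N25 D37
theorem N38 : nd 38 = n38 := ndS (p := 26) (l := 2) rfl N26 D38
theorem N39 : nd 39 = n39 := ndS (p := 27) (l := 1) rfl N27 D39
theorem N40 : nd 40 = n40 := ndS (p := 28) (l := 0) rfl N28 D40
theorem N41 : nd 41 = n41 := ndS (p := 30) (l := 3) rfl N30 D41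
theorem N42 : nd 42 = n42 := ndS (p := 31) (l := 2) rfl N31 D42
theorem N43 : nd 43 = n43 := ndS (p := 32) (l := 1) rfl N32 D43
theorem N44 : nd 44 = n44 := ndS (p := 33) (l := 0) rfl N33 D44
theorem N45 : nd 45 = n45 := ndS (p := 34) (l := 2) rfl N34 D45
theorem N46 : nd 46 = n46 := ndS (p := 35) (l := 1) rfl N35 D46
theorem N47 : nd 47 = n47 := ndS (p := 36) (l := 0) rfl N36 D47
theorem N48 : nd 48 = n48 := ndS (p := 38) (l := 1) rfl N38 D48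
theorem N49 : nd 49 = n49 := ndS (p := 39) (l := 0) rfl N39 D49
theorem N50 : nd 50 = n50 := ndS (p := 41) (l := 2) rfl N41 D50
theorem N51 : nd 51 = n51 := ndS (p := 42) (l := 1) rfl N42 D51
theorem N52 : nd 52 = n52 := ndS (p := 43) (l := 0) rfl N43 D52
theorem N53 : nd 53 = n53 := ndS (p := 45) (l := 1) rfl N45 D53
theorem N54 : nd 54 = n54 := ndS (p := 46) (l := 0) rfl N46 D54
theorem N55 : nd 55 = n55 := ndS (p := 48) (l := 0) rfl N48 D55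
theorem N56 : nd 56 = n56 := ndS (p := 50) (l := 1) rfl N50 D56
theorem N57 : nd 57 = n57 := ndS (p := 51) (l := 0) rfl N51 D57
theorem N58 : nd 58 = n58 := ndS (p := 53) (l := 0) rfl N53 D58
theorem N59 : nd 59 = n59 := ndS (p := 56) (l := 0) rfl N56 D59
theorem Q1 : ∀ i, i < 1 → P i := stepQ 0 Q0 (allL N0 (tt N0 F1) (tt N1 D1) (tt N2 D2) (tt N3 D3))
theorem Q2 : ∀ i, i < 2 → P i := stepQ 1 Q1 (allL N1 (tt N4 D4) (tt N0 (iv D1)) (tt N5 D5) (tt N6 D6))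
theorem Q3 : ∀ i, i < 3 → P i := stepQ 2 Q2 (allL N2 (tt N2 F2) (tt N7 D7) (tt N0 (iv D2)) (tt N8 D8))
theorem Q4 : ∀ i, i < 4 → P i := stepQ 3 Q3 (allL N3 (tt N3 F3) (tt N6 (iv F5)) (tt N9 D9) (tt N0 (iv D3)))
theorem Q5 : ∀ i, i < 5 → P i := stepQ 4 Q4 (allL N4 (tt N1 (iv D4)) (tt N4 F4) (tt N10 D10) (tt N11 D11))
theorem Q6 : ∀ i, i < 6 → P i := stepQ 5 Q5 (allL N5 (tt N10 (iv F8)) (tt N12 D12) (tt N1 (iv D5)) (tt N13 D13))
theorem Q7 : ∀ i, i < 7 → P i := stepQ 6 Q6 (allL N6 (tt N11 (iv F9)) (tt N3 F5) (tt N14 D14) (tt N1 (iv D6)))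
theorem Q8 : ∀ i, i < 8 → P i := stepQ 7 Q7 (allL N7 (tt N15 D15) (tt N2 (iv D7)) (tt N12 (iv F11)) (tt N16 D16))
theorem Q9 : ∀ i, i < 9 → P i := stepQ 8 Q8 (allL N8 (tt N8 F6) (tt N16 (iv F13)) (tt N17 D17) (tt N2 (iv D8)))
theorem Q10 : ∀ i, i < 10 → P i := stepQ 9 Q9 (allL N9 (tt N9 F7) (tt N18 D18) (tt N3 (iv D9)) (tt N17 (iv F15)))
theorem Q11 : ∀ i, i < 11 → P i := stepQ 10 Q10 (allL N10 (tt N5 F8) (tt N19 D19) (tt N4 (iv D10)) (tt N20 D20))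
theorem Q12 : ∀ i, i < 12 → P i := stepQ 11 Q11 (allL N11 (tt N6 F9) (tt N11 F10) (tt N21 D21) (tt N4 (iv D11)))
theorem Q13 : ∀ i, i < 13 → P i := stepQ 12 Q12 (allL N12 (tt N22 D22) (tt N5 (iv D12)) (tt N7 F11) (tt N23 D23))
theorem Q14 : ∀ i, i < 14 → P i := stepQ 13 Q13 (allL N13 (tt N20 (iv F17)) (tt N23 (iv F20)) (tt N24 D24) (tt N5 (iv D13)))
theorem Q15 : ∀ i, i < 15 → P i := stepQ 14 Q14 (allL N14 (tt N21 (iv F18)) (tt N25 D25) (tt N6 (iv D14)) (tt N24 (iv F21)))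
theorem Q16 : ∀ i, i < 16 → P i := stepQ 15 Q15 (allL N15 (tt N7 (iv D15)) (tt N15 F12) (tt N22 (iv F19)) (tt N26 D26))
theorem Q17 : ∀ i, i < 17 → P i := stepQ 16 Q16 (allL N16 (tt N26 (iv F23)) (tt N8 F13) (tt N27 D27) (tt N7 (iv D16)))
theorem Q18 : ∀ i, i < 18 → P i := stepQ 17 Q17 (allL N17 (tt N17 F14) (tt N28 D28) (tt N8 (iv D17)) (tt N9 F15))
theorem Q19 : ∀ i, i < 19 → P i := stepQ 18 Q18 (allL N18 (tt N29 D29) (tt N9 (iv D18)) (tt N25 (iv F22)) (tt N28 (iv F25)))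
theorem Q20 : ∀ i, i < 20 → P i := stepQ 19 Q19 (allL N19 (tt N30 D30) (tt N10 (iv D19)) (tt N19 F16) (tt N31 D31))
theorem Q21 : ∀ i, i < 21 → P i := stepQ 20 Q20 (allL N20 (tt N13 F17) (tt N31 (iv F29)) (tt N32 D32) (tt N10 (iv D20)))
theorem Q22 : ∀ i, i < 22 → P i := stepQ 21 Q21 (allL N21 (tt N14 F18) (tt N33 D33) (tt N11 (iv D21)) (tt N32 (iv F31)))
theorem Q23 : ∀ i, i < 23 → P i := stepQ 22 Q22 (allL N22 (tt N12 (iv D22)) (tt N30 (iv F27)) (tt N15 F19) (tt N34 D34))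
theorem Q24 : ∀ i, i < 24 → P i := stepQ 23 Q23 (allL N23 (tt N34 (iv F33)) (tt N13 F20) (tt N35 D35) (tt N12 (iv D23)))
theorem Q25 : ∀ i, i < 25 → P i := stepQ 24 Q24 (allL N24 (tt N32 (iv F30)) (tt N36 D36) (tt N13 (iv D24)) (tt N14 F21))
theorem Q26 : ∀ i, i < 26 → P i := stepQ 25 Q25 (allL N25 (tt N37 D37) (tt N14 (iv D25)) (tt N18 F22) (tt N36 (iv F35)))
theorem Q27 : ∀ i, i < 27 → P i := stepQ 26 Q26 (allL N26 (tt N16 F23) (tt N26 F24) (tt N38 D38) (tt N15 (iv D26)))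
theorem Q28 : ∀ i, i < 28 → P i := stepQ 27 Q27 (allL N27 (tt N38 (iv F37)) (tt N39 D39) (tt N16 (iv D27)) (tt N35 (iv F34)))
theorem Q29 : ∀ i, i < 29 → P i := stepQ 28 Q28 (allL N28 (tt N40 D40) (tt N17 (iv D28)) (tt N39 (iv F38)) (tt N18 F25))
theorem Q30 : ∀ i, i < 30 → P i := stepQ 29 Q29 (allL N29 (tt N18 (iv D29)) (tt N29 F26) (tt N37 (iv F36)) (tt N40 (iv F40)))
theorem Q31 : ∀ i, i < 31 → P i := stepQ 30 Q30 (allL N30 (tt N19 (iv D30)) (tt N22 F27) (tt N30 F28) (tt N41 D41))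
theorem Q32 : ∀ i, i < 32 → P i := stepQ 31 Q31 (allL N31 (tt N41 (iv F41)) (tt N20 F29) (tt N42 D42) (tt N19 (iv D31)))
theorem Q33 : ∀ i, i < 33 → P i := stepQ 32 Q32 (allL N32 (tt N24 F30) (tt N43 D43) (tt N20 (iv D32)) (tt N21 F31))
theorem Q34 : ∀ i, i < 34 → P i := stepQ 33 Q33 (allL N33 (tt N44 D44) (tt N21 (iv D33)) (tt N33 F32) (tt N43 (iv F44)))
theorem Q35 : ∀ i, i < 35 → P i := stepQ 34 Q34 (allL N34 (tt N23 F33) (tt N41 (iv F42)) (tt N45 D45) (tt N22 (iv D34)))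
theorem Q36 : ∀ i, i < 36 → P i := stepQ 35 Q35 (allL N35 (tt N45 (iv F47)) (tt N46 D46) (tt N23 (iv D35)) (tt N27 F34))
theorem Q37 : ∀ i, i < 37 → P i := stepQ 36 Q36 (allL N36 (tt N47 D47) (tt N24 (iv D36)) (tt N46 (iv F49)) (tt N25 F35))
theorem Q38 : ∀ i, i < 38 → P i := stepQ 37 Q37 (allL N37 (tt N25 (iv D37)) (tt N44 (iv F45)) (tt N29 F36) (tt N47 (iv F51)))
theorem Q39 : ∀ i, i < 39 → P i := stepQ 38 Q38 (allL N38 (tt N27 F37) (tt N48 D48) (tt N26 (iv D38)) (tt N45 (iv F48)))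
theorem Q40 : ∀ i, i < 40 → P i := stepQ 39 Q39 (allL N39 (tt N49 D49) (tt N27 (iv D39)) (tt N28 F38) (tt N46 (iv F50)))
theorem Q41 : ∀ i, i < 41 → P i := stepQ 40 Q40 (allL N40 (tt N28 (iv D40)) (tt N40 F39) (tt N49 (iv F53)) (tt N29 F40))
theorem Q42 : ∀ i, i < 42 → P i := stepQ 41 Q41 (allL N41 (tt N31 F41) (tt N34 F42) (tt N50 D50) (tt N30 (iv D41)))
theorem Q43 : ∀ i, i < 43 → P i := stepQ 42 Q42 (allL N42 (tt N50 (iv F54)) (tt N51 D51) (tt N31 (iv D42)) (tt N42 F43))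
theorem Q44 : ∀ i, i < 44 → P i := stepQ 43 Q43 (allL N43 (tt N52 D52) (tt N32 (iv D43)) (tt N51 (iv F56)) (tt N33 F44))
theorem Q45 : ∀ i, i < 45 → P i := stepQ 44 Q44 (allL N44 (tt N33 (iv D44)) (tt N37 F45) (tt N44 F46) (tt N52 (iv F59)))
theorem Q46 : ∀ i, i < 46 → P i := stepQ 45 Q45 (allL N45 (tt N35 F47) (tt N53 D53) (tt N34 (iv D45)) (tt N38 F48))
theorem Q47 : ∀ i, i < 47 → P i := stepQ 46 Q46 (allL N46 (tt N54 D54) (tt N35 (iv D46)) (tt N36 F49) (tt N39 F50))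
theorem Q48 : ∀ i, i < 48 → P i := stepQ 47 Q47 (allL N47 (tt N36 (iv D47)) (tt N52 (iv F58)) (tt N54 (iv F61)) (tt N37 F51))
theorem Q49 : ∀ i, i < 49 → P i := stepQ 48 Q48 (allL N48 (tt N55 D55) (tt N38 (iv D48)) (tt N48 F52) (tt N53 (iv F60)))
theorem Q50 : ∀ i, i < 50 → P i := stepQ 49 Q49 (allL N49 (tt N39 (iv D49)) (tt N55 (iv F63)) (tt N40 F53) (tt N54 (iv F62)))
theorem Q51 : ∀ i, i < 51 → P i := stepQ 50 Q50 (allL N50 (tt N42 F54) (tt N56 D56) (tt N41 (iv D50)) (tt N50 F55))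
theorem Q52 : ∀ i, i < 52 → P i := stepQ 51 Q51 (allL N51 (tt N57 D57) (tt N42 (iv D51)) (tt N43 F56) (tt N51 F57))
theorem Q53 : ∀ i, i < 53 → P i := stepQ 52 Q52 (allL N52 (tt N43 (iv D52)) (tt N47 F58) (tt N57 (iv F67)) (tt N44 F59))
theorem Q54 : ∀ i, i < 54 → P i := stepQ 53 Q53 (allL N53 (tt N58 D58) (tt N45 (iv D53)) (tt N56 (iv F65)) (tt N48 F60))
theorem Q55 : ∀ i, i < 55 → P i := stepQ 54 Q54 (allL N54 (tt N46 (iv D54)) (tt N58 (iv F69)) (tt N47 F61) (tt N49 F62))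
theorem Q56 : ∀ i, i < 56 → P i := stepQ 55 Q55 (allL N55 (tt N48 (iv D55)) (tt N49 F63) (tt N55 F64) (tt N58 (iv F70)))
theorem Q57 : ∀ i, i < 57 → P i := stepQ 56 Q56 (allL N56 (tt N59 D59) (tt N50 (iv D56)) (tt N53 F65) (tt N56 F66))
theorem Q58 : ∀ i, i < 58 → P i := stepQ 57 Q57 (allL N57 (tt N51 (iv D57)) (tt N59 (iv F71)) (tt N52 F67) (tt N57 F68))
theorem Q59 : ∀ i, i < 59 → P i := stepQ 58 Q58 (allL N58 (tt N53 (iv D58)) (tt N54 F69) (tt N59 (iv F72)) (tt N55 F70))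
theorem Q60 : ∀ i, i < 60 → P i := stepQ 59 Q59 (allL N59 (tt N56 (iv D59)) (tt N57 F71) (tt N58 F72) (tt N59 F73))

theorem closedN : ∀ i, i < N → P i := Q60

end Cfsg.Agent.Helper17.FiQ4TC
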